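import Cfsg.Agent.HJ.Fix
import Cfsg.Agent.Comp.Cent

/-!
# JC/Base: the involution centraliser `2^{1+4}_-:A₅` in a permutation group
-/

set_option autoImplicit false
set_option maxRecDepth 100000
set_option synthInstance.maxSize 100000

namespace Cfsg.Agent.JC

open Cfsg.Agent.Comp Cfsg.Agent.Core Cfsg.Agent.HJ Subgroup

variable {G : Type*} [Group G]

theorem cen_le [Finite G] {ρ : G →* Equiv.Perm ℕ} {z : G} {l : List ℕ}
    (hl : ∀ g, ρ z (ρ g 0) = ρ g 0 → ρ g 0 ∈ l) {m : ℕ} (g : Fin m → G)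
    (hg : ∀ i, ρ ((g i)⁻¹ * z * g i) 0 = 0) (hi : Function.Injective fun i => (g i)⁻¹ * z * g i) :
    m * Nat.card (centralizer ({z} : Set G)) ≤ l.length * Nat.card (St ρ 0) := by
  classical
  have ht : ∀ p : ℕ, ∃ t : G, ∀ k : G, ρ k 0 = p → ρ t 0 = p := fun p => by
    by_cases h : ∃ k : G, ρ k 0 = p
    · exact h.imp fun k hk _ _ => hk
    · exact ⟨1, fun k hk => absurd ⟨k, hk⟩ h⟩
  choose t ht using ht
  have hc : ∀ (c : centralizer ({z} : Set G)) i, (c * g i)⁻¹ * z * (c * g i) = (g i)⁻¹ * z * g i := fun c i => by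
    calc _ = (g i)⁻¹ * ((c : G)⁻¹ * (z * c)) * g i := by group
      _ = _ := by rw [← mem_cent.mp c.2]; group
  let F : Fin m × centralizer ({z} : Set G) → l.toFinset × St ρ 0 := fun x =>
    (⟨ρ (x.2 * g x.1) 0, List.mem_toFinset.mpr (hl _ (fix_conj (by rw [hc]; exact hg _)))⟩,
      ⟨(t (ρ (x.2 * g x.1) 0))⁻¹ * (x.2 * g x.1), by
        rw [mem_St, map_mul, map_inv, Equiv.Perm.mul_apply, Equiv.Perm.inv_eq_iff_eq, ht _ _ rfl]⟩)
  have hF : Function.Injective F := fun x y e => by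
    have h1 : ρ (x.2 * g x.1) 0 = ρ (y.2 * g y.1) 0 := congrArg (·.1.1) e
    have h2 : (t (ρ (x.2 * g x.1) 0))⁻¹ * (x.2 * g x.1) = (t (ρ (y.2 * g y.1) 0))⁻¹ * (y.2 * g y.1) :=
      congrArg (·.2.1) e
    rw [h1, mul_right_inj] at h2
    have h3 : x.1 = y.1 := hi (by
      change (g x.1)⁻¹ * z * g x.1 = (g y.1)⁻¹ * z * g y.1
      rw [← hc x.2, ← hc y.2, h2])
    rw [h3, mul_left_inj] at h2
    exact Prod.ext h3 (Subtype.ext h2)
  have := Nat.card_le_card_of_injective F hF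
  rw [Nat.card_prod, Nat.card_prod, Nat.card_eq_fintype_card (α := Fin m), Fintype.card_fin,
    Nat.card_eq_fintype_card (α := l.toFinset), Fintype.card_coe] at this
  exact this.trans (Nat.mul_le_mul_right _ l.toFinset_card_le)

/-- the points below `k` whose image is in `F` -/
noncomputable def key (T : List Net) (F k : Nat) (w : List Nat) : Nat :=
  Nat.land (runZ (nat_lit 1) T w F) (ivl (nat_lit 0) k)

/-- the keys are even and increase -/
noncomputable def incr (T : List Net) (F k : Nat) (W : List (List Nat)) : Nat → Bool :=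
  @List.rec (List Nat) (fun _ => Nat → Bool) (fun _ => true)
    (fun w _ ih p => frc (key T F k w) fun x => band (Nat.ble p x)
      (band (Nat.beq (Nat.mod x (nat_lit 2)) (nat_lit 0)) (ih (Nat.succ x)))) W

theorem incr_spec {T : List Net} {F k : ℕ} {W : List (List ℕ)} {p : ℕ} (h : incr T F k W p = true) :
    W.Pairwise (fun u v => key T F k u < key T F k v) ∧ ∀ w ∈ W, p ≤ key T F k w ∧ key T F k w % 2 = 0 := by
  induction W generalizing p with
  | nil => simp
  | cons w W ih =>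
    rw [show incr T F k (w :: W) p = frc (key T F k w) fun x => band (Nat.ble p x)
      (band (Nat.beq (Nat.mod x (nat_lit 2)) (nat_lit 0)) (incr T F k W (Nat.succ x))) from rfl, frc_eq, band_eq,
      band_eq, Nat.ble_eq] at h
    obtain ⟨h1, h2⟩ := ih h.2.2
    refine ⟨List.pairwise_cons.mpr ⟨fun v hv => (h2 v hv).1, h1⟩, fun v hv => ?_⟩
    rcases List.mem_cons.mp hv with rfl | hv
    · exact ⟨h.1, Nat.eq_of_beq_eq_true h.2.1⟩
    · exact ⟨h.1.trans (Nat.le_of_succ_le (h2 v hv).1), (h2 v hv).2⟩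

/-- the whole check -/
noncomputable def cenB (N B : Nat) (T : List Net) (k : Nat) (l : List Nat) (W : List (List Nat)) : Bool :=
  frc (moved N B T [nat_lit 0] B) fun F =>
    band (Nat.beq (Nat.lor F (ptsS l)) (ivl (nat_lit 0) N)) (incr T F k W (nat_lit 0))

theorem cen_le' [Finite G] {ρ : G →* Equiv.Perm ℕ} {s : ℕ → G} {L N B k : ℕ} {T : List Net} (h : Rep s L N T ρ)
    (hN : N ≤ 2 ^ B) (hL : 0 < L) (hk : 0 < k) (hk' : k ≤ N) {l : List ℕ} {W : List (List ℕ)}
    (hW : ∀ w ∈ W, ∀ x ∈ w, x < L) (H : cenB N B T k l W = true) :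
    W.length * Nat.card (centralizer ({s 0} : Set G)) ≤ l.length * Nat.card (St ρ 0) := by
  rw [cenB, frc_eq, band_eq] at H
  obtain ⟨h1, h2⟩ := incr_spec H.2
  have h3 := Nat.eq_of_beq_eq_true H.1
  have h4 : ∀ i < N, (moved N B T [nat_lit 0] B).testBit i = true ↔ ρ (s 0) i ≠ i := fun i hi => by
    rw [testBit_moved h.ok hN _ hi, ← h.ev_eq (by simpa using hL), ev_single]
  generalize moved N B T [nat_lit 0] B = F at h1 h2 h3 h4
  have h5 : ∀ w ∈ W, ∀ i, (key T F k w).testBit i = true ↔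
      i < k ∧ ρ ((ev s w)⁻¹ * s 0 * ev s w) i ≠ i := fun w hw i => by
    change (runZ _ T w F &&& _).testBit i = true ↔ _
    rw [Nat.testBit_and, show ivl (nat_lit 0) k = ivl 0 k from rfl, testBit_ivl, Bool.and_eq_true, decide_eq_true_eq,
      and_comm, runZ_eq, zero_add, and_iff_right (Nat.zero_le i)]
    refine and_congr_right fun hi => ?_
    rw [testBit_runW1 h.ok _ _ (by omega), ← h.ev_eq (hW w hw), h4 _ (Bd.lt (h.bd _) (by omega)), map_mul, map_mul,
      map_inv, Equiv.Perm.mul_apply, Equiv.Perm.mul_apply, Ne, Ne, Equiv.Perm.inv_eq_iff_eq]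
  refine cen_le (fun g hg => mem_ptsS ?_) (fun i => ev s W[i]) (fun i => ?_) fun i j e => ?_
  · have h6 := Bd.lt (h.bd g) (show 0 < N by omega)
    have h7 := congrArg (·.testBit (ρ g 0)) h3
    change (F ||| _).testBit _ = (ivl 0 N).testBit _ at h7
    rw [Nat.testBit_or, testBit_ivl, decide_eq_true (by omega), Bool.or_eq_true, h4 _ h6] at h7
    exact h7.resolve_left fun e => e hg
  · by_contra H
    have := (h5 _ (List.getElem_mem i.2) 0).mpr ⟨hk, H⟩
    rw [Nat.testBit_zero, (h2 _ (List.getElem_mem i.2)).2] at this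
    simp at this
  · have h6 : key T F k W[i.1] = key T F k W[j.1] := Nat.eq_of_testBit_eq fun p => by
      rw [Bool.eq_iff_iff, h5 _ (List.getElem_mem i.2), h5 _ (List.getElem_mem j.2)]
      exact Iff.of_eq (congrArg (fun x => p < k ∧ ρ x p ≠ p) e)
    rw [List.pairwise_iff_getElem] at h1
    rcases lt_trichotomy i j with H | H | H
    · exact absurd h6 (h1 _ _ i.2 j.2 H).ne
    · exact H
    · exact absurd h6 (h1 _ _ j.2 i.2 H).ne'

theorem h_l : El.l DH 0 = hz ∧ El.l DH 1 = he ∧ El.l DH 2 = ha := by decide +kernel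

theorem exists_cm' [Finite G] {c : ℕ → G} (h : Sat c RDH) (h1 : c 0 ≠ 1)
    (hc : Nat.card (centralizer ({c 0} : Set G)) ≤ 1920) :
    ∃ φ : El DH →* G, CM φ hz ∧ φ hz = c 0 ∧ φ he = c 1 ∧ φ ha = c 2 := by
  obtain ⟨φ, hφ, -⟩ := El.exists_hom (D := DH) h
  have e0 := h_l.1 ▸ hφ 0 (by decide)
  have hi : Function.Injective φ := inj_of_wit inj_wit (by rwa [hφ 0 (by decide)])
  have hle : φ.range ≤ centralizer ({c 0} : Set G) := by
    rintro _ ⟨u, rfl⟩
    rw [mem_cent, ← e0, ← map_mul, h_z, map_mul]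
  have := eq_of_le_of_card_ge hle (by rw [El.card_range hi]; exact hc)
  refine ⟨φ, ⟨hi, fun g => ?_⟩, e0, h_l.2.1 ▸ hφ 1 (by decide), h_l.2.2 ▸ hφ 2 (by decide)⟩
  rw [e0, ← mem_cent, ← this]
  rfl

theorem cm_congr {G' : Type*} [Group G'] {φ : El DH →* G} (h : CM φ hz) (e : G ≃* G') :
    CM (e.toMonoidHom.comp φ) hz := ⟨e.injective.comp h.inj, fun g => by
  obtain ⟨g, rfl⟩ := e.surjective g
  change e g * e (φ hz) = e (φ hz) * e g ↔ ∃ u, e (φ u) = e g
  simp only [← map_mul, e.apply_eq_iff_eq, h.cent]⟩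

def WP : List (List ℕ) := [[], [], [1], [1], [2, 4, 0], [0, 2, 4]]
def WK : List (List ℕ) := [[2, 4, 4, 2, 5, 5, 2, 4, 4], [2], [2, 4, 4, 2, 5], [4, 2, 5, 5, 2], [5, 2, 4]]
def WI : List (List ℕ) := [[0], [1], [4, 1, 5], [4, 4, 1, 5, 5], [4, 4, 4, 1, 5, 5, 5]]

theorem model : Sat (El.l DA) (RDH.map (subst WP)) ∧ Sat (El.l DH) (RDA.map (subst WK)) ∧
    Sat (El.l DH) (RDQ.map (subst WI)) ∧ (∀ a < 5, ev (El.l DA) (subst WP (WK.getD a [])) = El.l DA a) ∧
    (∀ a < 5, ev (El.l DA) (subst WP (WI.getD a [])) = 1) ∧ El.l DQ 0 = qz ∧ hz ≠ 1 ∧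
    (∀ a < 5, ∀ x ∈ WK.getD a [], x < 6) ∧ ∀ a < 5, ∀ x ∈ WI.getD a [], x < 6 := by
  unfold Sat; decide +kernel

theorem q_four : ∀ u : El DQ, u * u = 1 → u ≠ 1 → u ≠ qz → ∀ v, v * v = 1 → u * v = v * u →
    v = 1 ∨ v = qz ∨ v = u ∨ v = u * qz := by decide +kernel

theorem q_minus {Q : Type*} [Group Q] (e : El DQ ≃* Q) (E : Subgroup Q) (h : IsElementaryAbelian 2 E) :
    Nat.card E ≤ 2 ^ 2 := by
  classical
  have h1 : ∀ u, e u ∈ E → u * u = 1 := fun u hu => e.injective (by rw [map_mul, ← sq, h.2 _ hu, map_one])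
  obtain ⟨u, hu⟩ : ∃ u, ∀ v, e v ∈ E → v = 1 ∨ v = qz ∨ v = u ∨ v = u * qz := by
    by_cases H : ∃ u, e u ∈ E ∧ u ≠ 1 ∧ u ≠ qz
    · obtain ⟨u, hu, h2, h3⟩ := H
      exact ⟨u, fun v hv => q_four u (h1 u hu) h2 h3 v (h1 v hv) (e.injective (by
        rw [map_mul, map_mul]; exact congrArg Subtype.val (h.1.is_comm.comm ⟨_, hu⟩ ⟨_, hv⟩)))⟩
    · push Not at H
      exact ⟨1, fun v hv => (em (v = 1)).imp_right fun h => Or.inl (H v hv h)⟩
  have h2 : (E : Set Q) ⊆ ([e 1, e qz, e u, e (u * qz)].toFinset : Set Q) := fun x hx => by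
    obtain ⟨v, rfl⟩ := e.surjective x
    rcases hu v hx with h | h | h | h <;> rw [h] <;> simp only [List.coe_toFinset, List.mem_cons, Set.mem_setOf_eq,
      true_or, or_true]
  have h3 := Set.ncard_le_ncard h2 (Finset.finite_toSet _)
  rw [Set.ncard_coe_finset, ← Nat.card_coe_set_eq] at h3
  exact h3.trans ((List.toFinset_card_le _).trans (by simp))

theorem hom_ext {D : RTab} [Fact D.OK] {f g : El D →* G} (h : ∀ a < D.L, f (El.l D a) = g (El.l D a)) : f = g :=
  MonoidHom.ext fun u => (show gen (El.l D) D.L ≤ f.eqLocus g from gen_le.mpr h) ((El.gen_l (D := D)).ge (mem_top u))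

theorem shape {C : Type*} [Group C] (e : El DH ≃* C) : ∃ (Q : Subgroup C) (_ : Q.Normal), IsExtraspecial 2 Q ∧
    Nat.card Q = 32 ∧ (∀ E : Subgroup Q, IsElementaryAbelian 2 E → Nat.card E ≤ 2 ^ 2) ∧
    (∃ H : Subgroup C, Q.IsComplement' H) ∧ Nonempty (C ⧸ Q ≃* alternatingGroup (Fin 5)) := by
  obtain ⟨m1, m2, m3, m4, m5, m6, m7, m8, m9⟩ := model
  obtain ⟨π, hπ, -⟩ := El.exists_hom (D := DH) (Sat.subst m1)
  obtain ⟨κ, hκ, -⟩ := El.exists_hom (D := DA) (Sat.subst m2)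
  obtain ⟨ι, hι, -⟩ := El.exists_hom (D := DQ) (Sat.subst m3)
  have hw : ∀ w : List ℕ, (∀ x ∈ w, x < 6) → π (ev (El.l DH) w) = ev (El.l DA) (subst WP w) := fun w hw => by
    rw [map_ev, ev_subst]; exact ev_congr fun x hx => hπ x (hw x hx)
  have h1 : ∀ u, π (κ u) = u := DFunLike.congr_fun (hom_ext (f := π.comp κ) (g := MonoidHom.id _) fun a ha => by
    rw [MonoidHom.comp_apply, hκ a ha, hw _ (m8 a ha), m4 a ha]; rfl)
  have h2 : ∀ u, π (ι u) = 1 := DFunLike.congr_fun (hom_ext (f := π.comp ι) (g := 1) fun a ha => by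
    rw [MonoidHom.comp_apply, hι a ha, hw _ (m9 a ha), m5 a ha]; rfl)
  have h3 : Function.Injective ι := (MonoidHom.ker_eq_bot_iff _).mp (by_contra fun h => by
    obtain ⟨w, h1, h2, h3⟩ := PGrp.exists_mem_center_orderOf_eq (IsPGroup.of_card (p := 2) (n := 5) El.card_El) ι.ker h
    rcases (q_cent w).mp (mem_center_iff.mp h2) with rfl | rfl
    · simp at h3
    · rw [MonoidHom.mem_ker, ← m6, hι 0 (by decide)] at h1
      exact m7 (h_l.1 ▸ (ev_single _ _).symm.trans h1))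
  haveI : Finite C := Finite.of_equiv _ e.toEquiv
  have hC : Nat.card C = 1920 := (Nat.card_congr e.toEquiv).symm.trans El.card_El
  let π' : C →* El DA := π.comp e.symm.toMonoidHom
  have h4 : ∀ u, π' (e u) = π u := fun u => congrArg π (e.symm_apply_apply u)
  have h5 : Function.Surjective π' := fun u => ⟨e (κ u), (h4 _).trans (h1 u)⟩
  have h6 : Nat.card π'.ker = 32 := card_eq_of_index (n := 60) hC (by
    rw [index_ker, MonoidHom.range_eq_top.mpr h5, card_top, El.card_El]; rfl) (by norm_num)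
  let ι' : El DQ →* π'.ker := (e.toMonoidHom.comp ι).codRestrict _ fun u => (h4 _).trans (h2 u)
  have h7 : Function.Bijective ι' := (Nat.bijective_iff_injective_and_card _).mpr
    ⟨fun u v h => h3 (e.injective (congrArg Subtype.val h)), El.card_El.trans h6.symm⟩
  obtain ⟨ε⟩ := equiv_DA
  refine ⟨π'.ker, inferInstance, PGrp.isExtraspecial_of_equiv (MulEquiv.ofBijective ι' h7) extraspecial_DQ, h6,
    q_minus (MulEquiv.ofBijective ι' h7), ⟨(e.toMonoidHom.comp κ).range, isComplement'_of_card_mul_and_disjoint ?_ ?_⟩,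
    ⟨(QuotientGroup.quotientKerEquivOfSurjective π' h5).trans ε⟩⟩
  · rw [h6, hC, El.card_range (e.injective.comp fun u v h => by rw [← h1 u, h, h1])]; rfl
  · rw [disjoint_def]
    rintro _ hx ⟨u, rfl⟩
    rw [show u = 1 from (h1 u).symm.trans ((h4 _).symm.trans hx), map_one]

/-- the model group is the centraliser -/
theorem cm_equiv {φ : El DH →* G} (h : CM φ hz) : Nonempty (El DH ≃* centralizer ({φ hz} : Set G)) :=
  ⟨(MonoidHom.ofInjective h.inj).trans (MulEquiv.subgroupCongr (by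
    ext g; rw [mem_cent, h.cent]; rfl))⟩

end Cfsg.Agent.JC
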