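import Cfsg.Agent.JC.Base

/-!
# JC/J2: the centraliser of a `2`-central involution of `J₂`
-/

set_option autoImplicit false
set_option maxRecDepth 100000

namespace Cfsg.Agent.JC

open Cfsg.Agent.Comp Cfsg.Agent.Core Cfsg.Agent.HJ Subgroup

def FH2 : List (List ℕ) := [[0], [2], [2, 3, 1, 0, 3, 4, 1, 2, 4, 0, 5, 0, 1], [1, 0, 5, 0, 4, 2, 1, 4, 3, 0, 1, 3, 2], [3, 5, 0, 4, 2, 5, 0, 4, 3], [3, 4, 0, 5, 2, 4, 0, 5, 3]]

def L2 : List ℕ := [0, 1, 11, 14, 18, 19, 22, 23, 24, 25, 28, 30, 36, 49, 64, 67, 70, 80, 84, 96]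

def W2 : List (List ℕ) := [[], [4, 5, 0, 3, 5], [4, 1, 2, 4, 1], [1, 3, 4, 1, 3], [1, 0, 3, 4, 5, 2], [1, 5, 4, 2, 5], [1, 3, 1, 4, 1], [3], [1, 3, 4, 1, 2], [3, 4, 0, 1], 
  [1, 0, 4, 2, 1], [1, 3, 4, 1], [4, 0], [4], [1, 0, 2, 1], [1, 0, 3, 4, 5, 0], [1, 0, 3, 4, 5], [3, 4, 0], [1, 0, 3, 1], [3, 4], [5, 3, 0, 5], 
  [3, 4, 1], [1, 0, 3], [1, 0, 2], [4, 1], [1, 2, 3, 1, 0], [1, 3, 4], [1, 2, 3], [1, 2, 3, 1], [1, 4], [1, 2], [1, 3, 1], [1, 2, 5, 3], [1, 0, 2, 4], 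
  [1, 4, 1, 3], [3, 1, 4, 0], [3, 1, 4], [3, 1], [1, 2, 5], [1, 3], [1, 4, 1, 2], [1, 2, 4, 1, 3], [1, 0, 4], [1], [1, 2, 3, 1, 2], [1, 4, 2], [1, 2, 4], 
  [1, 2, 5, 4], [1, 0, 4, 2], [1, 3, 0], [1, 3, 1, 4], [1, 4, 1], [4, 1, 2], [1, 2, 5, 4, 0], [4, 1, 3], [1, 0], [1, 3, 0, 5], [1, 2, 4, 1], 
  [1, 4, 2, 1], [1, 0, 2, 4, 1], [1, 3, 0, 5, 4], [4, 1, 2, 4], [1, 0, 3, 4]]

theorem chk2 : cenB (nat_lit 100) (nat_lit 7) J2.T (nat_lit 24) L2 W2 = true := by decide +kernel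

theorem cm2 : ∃ φ : El DH →* J2.G, CM φ hz ∧ φ hz = J2.s 0 := by
  haveI := J2.card.1
  have h : Sat J2.s (RDH.map (subst FH2)) :=
    J2.rep.sat_of_inj J2.card.2.2 (by decide +kernel) (sat_of_relsP J2.ok (by norm_num)
      (show relsP (nat_lit 100) (nat_lit 7) (nat_lit 0) (nat_lit 7) J2.T _ = true by decide +kernel))
  have h1 := cen_le' J2.rep (B := 7) (by norm_num) (by norm_num) (by norm_num) (by norm_num) (by decide +kernel) chk2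
  rw [show Nat.card (St J2.phi 0) = 6048 from card_eq_of_index (n := 100) J2.card.2.1
    (J2.rep.index_stab (by norm_num) J2.trans) (by norm_num), show W2.length = 63 by decide +kernel,
    show L2.length = 20 by decide +kernel] at h1
  have e0 : ev J2.s (FH2.getD 0 []) = J2.s 0 := ev_single _ _
  obtain ⟨φ, h2, h3, -⟩ := exists_cm' (Sat.subst h) (fun H => ne_one_of_moves J2.ok (w := [0]) (p := 2) (by norm_num)
    (by decide +kernel) (by rw [← J2.rep.ev_eq (by decide), show ev J2.s [0] = 1 from H, map_one]; rfl))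
    (by rw [e0]; omega)
  exact ⟨φ, h2, h3.trans e0⟩

end Cfsg.Agent.JC
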