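import Cfsg.Agent.JC.Base
import Cfsg.Agent.HJ.J3F

/-!
# JC/J3: the involutions of `J₃`
-/

set_option autoImplicit false
set_option maxRecDepth 100000

namespace Cfsg.Agent.JC

open Cfsg.Agent.Comp Cfsg.Agent.Core Cfsg.Agent.HJ Subgroup

def FH3 : List (List ℕ) := [[0], [3, 0, 4, 3, 4, 3, 5, 3, 4, 3, 4, 0, 3], [0, 1, 4], [4, 2, 0], [4, 3, 0, 3], [3, 0, 3, 4]]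

def L3 : List ℕ := [0, 1, 2, 10, 19, 20, 269, 337, 340, 341, 445, 446, 491, 546, 575, 586, 588, 589, 635, 636, 654, 657, 658, 659, 660, 667, 668, 690, 702, 703, 704, 706, 707, 708, 712, 715, 860, 923, 979, 981, 982, 1050, 1059, 1060, 1061, 1082, 1128, 1131, 1181, 1201, 1202, 1203, 1219, 1233, 1234, 1236, 1237, 1245, 1283, 1284, 1285, 1301, 1325, 1326, 1333, 1343, 1345, 1346, 1354, 1355, 1356, 1357, 1381, 1388, 1389, 1395]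

def W3 : List (List ℕ) := [[5, 4, 3, 0, 4, 3, 5, 4, 3, 0, 5, 0], [5, 3, 4, 3, 5, 3, 0, 1, 4, 5, 4], [3, 2, 4, 5, 4, 3, 5, 3, 4, 3, 0, 5, 4], [5, 3, 4, 3, 5, 3, 0, 4, 5, 3, 0, 2], 
  [5, 3, 4, 3, 5, 3, 0, 4, 5, 3, 0], [3, 4, 3, 5, 3, 4, 3, 0, 3, 1, 4, 5], [3, 1, 4, 3, 2, 5, 3, 4, 5, 3, 0, 1], [5, 4, 5, 3, 0, 2, 4, 3, 4, 5, 4, 5], 
  [3, 1, 4, 3, 0, 3, 1, 5, 4, 5, 0], [3, 5, 0, 4, 3, 5, 3, 4, 3, 2, 5, 3], [5, 3, 4, 3, 5, 3, 4, 3, 0, 5, 3], [3, 5, 0, 4, 3, 5, 3, 1, 4, 5, 3], 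
  [3, 1, 4, 3, 2, 5, 3, 4, 5, 0, 3, 4], [3, 4, 5, 4, 3, 2, 5, 3, 0, 4, 5, 0], [5, 0, 4, 5, 3, 4, 5, 4, 3, 0, 5, 4, 5, 4], 
  [3, 5, 0, 4, 3, 5, 3, 4, 3, 5, 3], [5, 4, 3, 0, 4, 3, 5, 0, 4, 5, 0], [3, 5, 0, 4, 3, 5, 3, 4, 3, 1, 5], [3, 1, 4, 3, 2, 5, 3, 4, 3, 5, 3, 0], 
  [3, 1, 4, 3, 2, 5, 3, 4, 5, 3, 4, 3, 4], [3, 2, 4, 5, 4, 3, 5, 3, 0, 1, 4, 5], [5, 3, 4, 3, 5, 3, 2, 4, 3, 0, 3, 5], [3, 4, 5, 4, 3, 2, 5, 3, 0, 4, 5], 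
  [3, 1, 4, 3, 5, 4, 3, 5, 3, 2, 4, 3, 4, 5, 4], [5, 4, 3, 0, 4, 3, 5, 4, 5, 0, 3, 5], [3, 1, 4, 3, 0, 3, 5, 4, 3, 2, 5, 3, 0], 
  [3, 1, 4, 3, 2, 5, 3, 4, 3, 5, 0], [3, 1, 4, 3, 2, 5, 3, 4, 5, 3, 4], [3, 1, 4, 3, 0, 3, 5, 4, 3, 5, 0, 4, 3], [3, 5, 0, 4, 3, 5, 3, 4, 3, 2, 5], 
  [3, 5, 0, 4, 3, 5, 3, 1, 4, 3, 5], [3, 1, 4, 3, 0, 3, 5, 4, 3, 2, 5, 0], [3, 5, 0, 4, 3, 5, 3, 2, 4, 5], [5, 3, 4, 3, 5, 3, 4, 3, 0, 1, 5], 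
  [3, 2, 4, 5, 4, 3, 5, 3, 0, 4, 5, 0], [3, 4, 3, 5, 3, 4, 3, 0, 3, 4, 5, 4], [3, 5, 0, 4, 3, 5, 3, 4, 3, 5], [3, 4, 5, 4, 3, 2, 5, 3, 0, 4, 5, 4, 3], 
  [5, 3, 4, 5, 3, 4, 5, 4, 3, 2, 4, 5], [5, 4, 3, 5, 3, 1, 4, 5, 4, 3, 4, 5, 0, 4], [3, 1, 4, 5, 4, 3, 0, 4, 3, 5, 4, 5], 
  [3, 5, 0, 4, 3, 5, 3, 1, 4, 5, 3, 0], [3, 1, 4, 3, 2, 5, 3, 4, 5, 0, 3], [3, 5, 0, 4, 3, 5, 3, 4, 5], [3, 1, 4, 3, 2, 5, 3, 4, 5, 3, 1, 4], 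
  [3, 1, 4, 3, 2, 5, 3, 4, 3, 5, 3, 0, 2], [3, 5, 0, 4, 3, 5, 3, 1, 4, 3, 2, 5], [5, 3, 4, 3, 5, 3, 0, 4, 5, 3, 4, 3, 0], 
  [3, 1, 4, 3, 2, 5, 3, 4, 3, 5, 3, 0, 3], [5, 3, 4, 3, 5, 3, 0, 4, 5, 3, 1], [3, 5, 0, 4, 3, 5, 3, 1, 4, 5, 3, 4], [5, 3, 4, 3, 5, 3, 0, 4, 5, 3, 2], 
  [5, 3, 4, 3, 5, 3, 1, 4, 3, 0, 5], [3, 1, 4, 3, 2, 5, 3, 4, 5, 3], [3, 1, 4, 3, 2, 5, 3, 4, 3, 1, 5, 3], [3, 1, 4, 3, 2, 5, 3, 4, 5], 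
  [5, 4, 3, 0, 2, 4, 5, 0, 3, 4, 5, 3], [5, 4, 3, 0, 4, 3, 5, 4, 5, 0, 3, 5, 3, 4], [3, 1, 4, 3, 0, 3, 5, 4, 3, 2, 5, 4, 3], 
  [3, 1, 4, 3, 2, 5, 3, 4, 3, 1, 5], [3, 1, 4, 3, 0, 3, 5, 4, 3, 2, 5, 4], [5, 4, 3, 0, 2, 4, 5, 0, 3, 4, 5], [3, 5, 0, 4, 5, 3, 0, 3, 4, 5, 4, 5], 
  [3, 1, 5, 4, 3, 5, 4, 3, 0, 1, 3, 4, 5], [3, 4, 3, 5, 3, 4, 3, 0, 3, 4, 5, 0], [3, 4, 5, 4, 3, 2, 5, 3, 0, 4, 3, 5], 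
  [3, 5, 0, 4, 3, 5, 3, 4, 3, 5, 3, 4], [5, 3, 4, 3, 5, 3, 0, 4, 5, 0, 3], [5, 4, 5, 3, 0, 2, 4, 3, 1, 4, 5, 4, 5], 
  [3, 4, 3, 5, 3, 4, 3, 0, 3, 2, 4, 5, 4], [3, 1, 4, 3, 0, 3, 5, 4, 3, 5, 4, 3], [3, 5, 0, 4, 3, 5, 3, 2, 4, 5, 0, 3], 
  [3, 1, 4, 3, 0, 3, 1, 5, 4, 5, 3, 4], [5, 3, 4, 3, 5, 3, 0, 4, 5, 3, 4], [3, 5, 0, 4, 3, 5, 3, 4, 5, 0, 3, 4, 3], 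
  [3, 1, 4, 3, 0, 3, 1, 5, 4, 5, 3, 0, 2], [5, 4, 5, 3, 0, 2, 4, 3, 2, 4, 5, 4, 5], [5, 4, 3, 0, 4, 3, 5, 0, 4, 3, 5], 
  [3, 1, 4, 3, 0, 3, 5, 4, 3, 2, 5, 4, 3, 2], [3, 5, 0, 4, 3, 5, 3, 4, 3, 2, 5, 0], [3, 5, 0, 4, 3, 5, 3, 4, 3, 1, 5, 4], 
  [3, 5, 0, 4, 3, 5, 3, 4, 3, 5, 3, 0], [5, 4, 3, 0, 4, 3, 5, 0, 4, 5, 3], [3, 2, 4, 5, 4, 3, 5, 3, 0, 4, 3, 5], [5, 3, 4, 3, 5, 3, 0, 5, 4, 5, 4, 5], 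
  [3, 1, 4, 3, 2, 5, 3, 4, 3, 5, 3, 4], [3, 1, 4, 3, 0, 3, 1, 5, 4, 5, 3, 0], [3, 1, 4, 3, 0, 3, 1, 5, 4, 5, 3, 2, 4], [5, 3, 4, 3, 5, 3, 0, 1, 4, 3, 5], 
  [5, 3, 4, 3, 5, 3, 0, 5, 4, 5, 4, 5, 4], [3, 4, 3, 5, 3, 4, 5, 3, 0, 2, 3, 4, 5], [3, 1, 4, 3, 2, 5, 3, 4, 3, 5, 3, 2], 
  [3, 2, 4, 5, 4, 3, 5, 3, 0, 4, 3, 1, 5], [5, 3, 4, 3, 5, 3, 0, 4, 3, 1, 5, 4, 5], [3, 1, 4, 3, 2, 5, 3, 4, 5, 3, 0, 4, 3], 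
  [5, 4, 3, 0, 4, 3, 2, 5, 0, 4, 3, 5], [3, 2, 4, 3, 5, 4, 3, 0, 4, 3, 5, 4, 5], [3, 1, 4, 3, 2, 5, 3, 4, 5, 3, 4, 3, 2], 
  [3, 1, 4, 3, 0, 3, 1, 5, 4, 5, 3, 1], [3, 1, 4, 3, 2, 5, 3, 4, 5, 3, 4, 3], [5, 3, 4, 3, 5, 3, 0, 1, 4, 5, 0], [3, 1, 4, 3, 2, 5, 3, 4, 3, 5, 3, 2, 4], 
  [5, 4, 3, 0, 4, 3, 2, 5, 0, 4, 5, 0], [3, 1, 4, 3, 0, 3, 5, 4, 3, 1, 5, 4], [3, 5, 0, 4, 3, 5, 3, 4, 5, 0], [5, 3, 4, 3, 5, 3, 0, 1, 4, 3, 2, 5], 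
  [5, 4, 3, 5, 3, 1, 4, 5, 4, 3, 4, 5], [5, 3, 4, 3, 5, 3, 2, 4, 5, 0, 3, 5, 4], [5, 4, 3, 0, 4, 3, 2, 5, 0, 4, 5, 3], [3, 1, 4, 3, 2, 5, 3, 4, 3, 5, 3], 
  [5, 3, 4, 3, 5, 3, 0, 4, 5, 3, 0, 4], [3, 4, 3, 5, 3, 4, 3, 0, 3, 4, 5], [3, 1, 4, 3, 2, 5, 3, 4, 3, 5, 3, 0, 3, 4], 
  [5, 3, 4, 3, 5, 3, 0, 1, 4, 3, 1, 5], [3, 2, 4, 5, 4, 3, 5, 3, 0, 4, 5], [3, 5, 0, 4, 5, 3, 0, 3, 4, 5, 4, 5, 0], [5, 3, 4, 3, 5, 3, 0, 4, 3, 5, 4, 5], 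
  [3, 1, 4, 3, 0, 3, 1, 5, 4, 5, 3, 0, 4], [3, 1, 4, 3, 0, 3, 1, 5, 4, 5, 3, 2], [3, 1, 4, 3, 2, 5, 3, 4, 5, 0], [5, 4, 3, 5, 3, 1, 4, 5, 4, 3, 4, 5, 0], 
  [3, 1, 4, 3, 0, 3, 5, 4, 3, 5, 0, 4], [5, 3, 4, 3, 5, 3, 0, 4, 5, 3, 1, 4], [5, 3, 4, 3, 5, 3, 4, 3, 0, 5], [5, 3, 4, 3, 5, 3, 0, 4, 5, 3, 0, 4, 3], 
  [3, 5, 0, 4, 3, 5, 3, 4, 5, 3, 0, 1, 4], [3, 5, 0, 4, 5, 3, 0, 3, 4, 5, 4, 3, 5], [3, 5, 0, 4, 3, 5, 3, 4, 5, 3, 4], [3, 1, 4, 3, 0, 3, 5, 4, 5, 0, 3], 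
  [3, 1, 4, 3, 0, 3, 5, 4, 3, 2, 5, 0, 4], [5, 3, 4, 3, 5, 3, 0, 2, 4, 3, 5, 3], [5, 3, 4, 3, 5, 3, 0, 4, 3, 5, 3, 4], 
  [3, 5, 0, 4, 3, 5, 3, 1, 4, 5, 3, 2], [3, 5, 0, 4, 3, 5, 3, 4, 5, 0, 3, 4], [5, 3, 4, 3, 5, 3, 0, 4, 5, 4], [5, 3, 4, 3, 5, 3, 2, 4, 5, 0, 3, 5], 
  [3, 4, 3, 5, 3, 4, 3, 0, 3, 2, 4, 5], [5, 3, 4, 3, 5, 3, 0, 2, 4, 3, 5, 4], [3, 1, 4, 3, 2, 5, 3, 4, 5, 3, 0], [5, 3, 4, 3, 5, 3, 0, 2, 4, 5], 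
  [3, 1, 4, 3, 0, 3, 5, 4, 3, 2, 5, 3], [5, 4, 3, 0, 4, 3, 5, 0, 4, 5], [3, 1, 4, 3, 2, 5, 3, 4, 3, 5, 3, 0, 4], [5, 4, 3, 0, 4, 3, 5, 4, 3, 0, 1, 5], 
  [5, 4, 3, 0, 4, 3, 5, 0, 4, 3, 1, 5], [3, 5, 0, 4, 3, 5, 3, 1, 4, 5], [3, 4, 5, 4, 3, 2, 5, 3, 0, 4, 5, 4], [3, 1, 4, 3, 5, 4, 3, 5, 3, 2, 4, 3, 4, 5], 
  [5, 3, 4, 3, 5, 3, 0, 2, 4, 3, 1, 5], [5, 4, 3, 0, 4, 3, 5, 4, 3, 0, 5], [5, 3, 4, 3, 5, 3, 0, 2, 4, 3, 5, 0], [5, 3, 4, 3, 5, 3, 4, 3, 0, 5, 0, 4], 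
  [3, 1, 4, 3, 0, 3, 5, 4, 3, 5, 0], [3, 1, 4, 3, 0, 3, 5, 4, 5, 3, 0, 3], [3, 1, 4, 3, 2, 5, 3, 4, 5, 3, 0, 2, 4], [5, 4, 5, 3, 0, 2, 4, 3, 5, 4, 5, 3], 
  [5, 3, 4, 3, 5, 3, 0, 2, 4, 5, 3], [3, 1, 4, 3, 0, 3, 5, 4, 5, 0], [3, 1, 4, 3, 2, 5, 3, 4, 5, 3, 0, 2], [5, 4, 3, 0, 4, 3, 5, 4, 3, 0, 5, 4], 
  [5, 3, 4, 3, 5, 3, 4, 3, 0, 5, 0], [3, 1, 4, 3, 2, 5, 3, 4, 3, 2, 5], [5, 4, 3, 0, 4, 3, 5, 4, 5, 0, 3, 5, 3], [5, 3, 4, 3, 5, 3, 0, 1, 4, 5], 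
  [3, 1, 4, 3, 0, 3, 1, 5, 4, 3, 5, 4], [5, 4, 5, 3, 0, 2, 4, 3, 2, 5, 4, 5], [3, 1, 4, 3, 0, 3, 1, 5, 4, 3, 5, 0], [3, 1, 4, 3, 0, 3, 5, 4, 3, 5], 
  [3, 5, 0, 4, 3, 5, 3, 1, 4, 3, 5, 3], [3, 1, 4, 3, 2, 5, 3, 4, 5, 3, 1], [5, 3, 4, 3, 5, 3, 0, 4, 5, 3], [5, 4, 3, 5, 3, 1, 4, 5, 4, 3, 2, 4, 5, 4], 
  [3, 5, 0, 4, 3, 5, 3, 4, 5, 3, 0, 3], [3, 1, 4, 3, 0, 3, 1, 5, 4, 5], [3, 2, 4, 5, 4, 3, 5, 3, 4, 3, 0, 5], [5, 3, 4, 3, 5, 3, 4, 3, 0, 1, 5, 4], 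
  [5, 3, 4, 3, 5, 3, 0, 4, 5, 0], [3, 1, 4, 3, 0, 3, 5, 4, 3, 2, 5], [3, 5, 0, 4, 3, 5, 3, 1, 4, 3, 1, 5], [3, 5, 0, 4, 3, 5, 3, 1, 4, 3, 5, 0], 
  [3, 1, 4, 3, 2, 5, 3, 4, 5, 3, 0, 1, 4], [3, 5, 0, 4, 3, 5, 3, 4, 5, 3, 4, 3], [5, 0, 4, 5, 3, 4, 5, 4, 3, 0, 5, 4, 5], 
  [3, 4, 5, 4, 3, 2, 5, 3, 0, 4, 5, 0, 4], [5, 3, 4, 3, 5, 3, 0, 1, 4, 5, 0, 3], [5, 4, 3, 0, 4, 3, 5, 0, 4, 3, 5, 0], 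
  [5, 4, 3, 0, 4, 3, 1, 5, 4, 3, 5, 4, 5], [5, 4, 3, 0, 4, 3, 2, 5, 0, 4, 5], [3, 5, 0, 4, 3, 5, 3, 4, 3, 5, 4], [3, 5, 0, 4, 3, 5, 3, 2, 4, 5, 0], 
  [5, 3, 4, 5, 3, 4, 5, 4, 3, 4, 5], [5, 3, 4, 3, 5, 3, 0, 4, 5, 3, 4, 3], [3, 1, 4, 3, 0, 3, 5, 4, 3, 5, 4], [5, 4, 3, 5, 3, 1, 4, 5, 4, 3, 2, 4, 5], 
  [3, 2, 4, 5, 4, 3, 5, 3, 0, 1, 4, 5, 0], [3, 1, 4, 3, 2, 5, 3, 4, 3, 5], [5, 4, 3, 0, 4, 3, 5, 4, 3, 0, 5, 3], [3, 1, 4, 3, 2, 5, 3, 4, 5, 3, 0, 4], 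
  [3, 1, 4, 3, 2, 5, 3, 4, 5, 3, 2, 4], [3, 4, 3, 5, 3, 4, 3, 0, 3, 4, 5, 0, 4], [3, 5, 0, 4, 3, 5, 3, 4, 3, 5, 0], 
  [5, 4, 3, 5, 3, 1, 4, 5, 4, 3, 4, 5, 4], [3, 1, 4, 3, 0, 3, 5, 4, 3, 1, 5], [3, 1, 4, 3, 0, 3, 1, 5, 4, 5, 3], [3, 5, 0, 4, 3, 5, 3, 4, 5, 3, 2, 4], 
  [3, 1, 4, 3, 0, 3, 5, 4, 5], [3, 1, 4, 3, 0, 3, 1, 5, 4, 5, 3, 2, 4, 3], [3, 1, 4, 3, 0, 3, 1, 5, 4, 3, 5], [3, 5, 0, 4, 3, 5, 3, 4, 5, 3, 0, 4], 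
  [5, 4, 3, 2, 4, 5, 4, 3, 4, 5, 4, 5], [5, 3, 4, 3, 5, 3, 0, 2, 4, 3, 5], [3, 1, 4, 3, 2, 5, 3, 4, 5, 3, 0, 3], [3, 1, 4, 3, 0, 3, 1, 5, 4, 3, 2, 5], 
  [3, 5, 0, 4, 3, 5, 3, 4, 5, 3, 1], [3, 1, 4, 3, 0, 3, 1, 5, 4, 3, 1, 5], [3, 5, 0, 4, 5, 3, 0, 3, 4, 5, 4, 3, 5, 0], 
  [3, 5, 0, 4, 3, 5, 3, 4, 5, 3, 1, 4], [5, 4, 3, 2, 4, 5, 4, 3, 1, 4, 5, 4, 5], [5, 3, 4, 3, 5, 3, 4, 3, 0, 5, 4], [3, 5, 0, 4, 3, 5, 3, 4, 5, 3], 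
  [3, 5, 0, 4, 3, 5, 3, 4, 5, 3, 0, 1], [5, 4, 3, 0, 4, 3, 5, 0, 4, 3, 5, 3, 0], [5, 4, 3, 2, 5, 4, 5, 3, 0, 3, 4, 5], 
  [3, 1, 4, 3, 0, 3, 5, 4, 3, 1, 5, 4, 3], [3, 1, 4, 3, 0, 3, 1, 5, 4, 3, 5, 3], [3, 1, 4, 3, 0, 3, 5, 4, 5, 3], [3, 1, 4, 3, 2, 5, 3, 4, 5, 3, 2], 
  [5, 4, 5, 3, 0, 2, 4, 3, 5, 4, 5], [5, 3, 4, 3, 5, 3, 0, 4, 5], [3, 1, 4, 3, 0, 3, 5, 4, 5, 3, 2], [3, 5, 0, 4, 3, 5, 3, 4, 5, 3, 0], 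
  [5, 4, 3, 2, 5, 4, 5, 3, 0, 3, 1, 4, 5], [5, 4, 3, 0, 4, 3, 2, 5, 0, 4, 3, 5, 3], [5, 4, 3, 0, 4, 3, 5, 0, 4, 3, 5, 3], 
  [5, 3, 4, 5, 4, 3, 2, 4, 5, 3, 5, 4, 5], [3, 5, 0, 4, 3, 5, 3, 4, 5, 0, 3], [3, 1, 4, 3, 0, 3, 1, 5, 4, 5, 3, 0, 1], 
  [3, 1, 4, 3, 0, 3, 1, 5, 4, 5, 3, 1, 4], [3, 1, 4, 3, 2, 5, 3, 4, 3, 5, 4], [3, 5, 0, 4, 3, 5, 3, 1, 4, 5, 0], [3, 1, 4, 3, 0, 3, 5, 4, 5, 3, 1], 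
  [5, 4, 5, 3, 0, 2, 4, 3, 1, 5, 4, 5], [3, 1, 4, 3, 0, 3, 5, 4, 5, 3, 4], [3, 1, 4, 3, 0, 3, 5, 4, 5, 3, 0], [3, 4, 3, 5, 3, 4, 3, 0, 3, 4, 5, 3], 
  [3, 1, 4, 3, 2, 5, 3, 4, 5, 3, 0, 3, 4], [5, 3, 4, 3, 5, 3, 0, 4, 3, 5, 3], [5, 3, 4, 3, 5, 3, 0, 4, 3, 5], [5, 3, 4, 3, 5, 3, 0, 4, 3, 2, 5], 
  [3, 5, 0, 4, 3, 5, 3, 4, 5, 3, 2], [5, 3, 4, 3, 5, 3, 0, 4, 3, 1, 5], [3, 1, 4, 3, 0, 3, 5, 4, 5, 3, 0, 1], [5, 3, 4, 3, 5, 3, 0, 4, 3, 5, 4], 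
  [5, 3, 4, 3, 5, 3, 0, 4, 3, 2, 5, 4], [5, 3, 4, 3, 5, 3, 0, 4, 3, 1, 5, 4], [5, 4, 5, 4, 5, 4, 5, 0], [3, 4, 3, 0, 2, 3, 0, 4], 
  [3, 1, 4, 3, 0, 1, 3, 4], [3, 4, 3, 1, 5, 3, 5, 4], [3, 4, 3, 0, 2, 3, 4], [3, 4, 3, 0, 2, 3, 2, 4], [5, 4, 5, 4, 5, 4, 5], [3, 4, 3, 0, 2, 3, 1, 4], 
  [3, 4, 3, 1, 5, 3, 5], [3, 1, 4, 3, 0, 1, 3], [3, 4, 3, 0, 2, 3, 0], [3, 1, 4, 3, 0, 1], [3, 1, 4, 3, 0, 3, 2], [3, 1, 4, 3, 0, 2, 3, 1], 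
  [3, 1, 4, 3, 0, 2], [3, 1, 4, 3, 0, 3], [3, 1, 4, 3, 0, 2, 3, 2], [3, 2, 4, 3, 2], [3, 2, 4, 3, 0, 1], [3, 4, 3, 2], [3, 2, 4, 3, 0, 3], [3, 4, 3, 1], 
  [3, 2, 4, 3, 0, 3, 2], [3, 1, 4, 3, 0], [3, 4, 3, 0, 2, 3, 2], [3, 4, 3, 0, 2, 3], [3, 4, 3, 0, 2, 3, 1], [3, 4, 3, 0, 3], [3, 4, 3, 0, 1, 3, 1], 
  [3, 4, 3, 0, 1], [3, 4, 3, 0, 3, 2], [3, 4, 3, 0, 1, 3], [3, 4, 3, 0], [3, 4, 3, 0, 3, 1], [3, 4, 3, 5, 3, 5], [3, 4, 3, 5, 3, 2, 5], [3, 4, 3, 1, 4], 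
  [3, 4, 3, 4], [3, 1, 4, 3, 1], [3, 4, 3, 0, 2], [3, 2, 4, 3, 0, 3, 1], [3, 4, 3, 2, 4], [3, 2, 4, 3, 1], [3, 4, 5, 3, 5], [3, 2, 4, 3, 0], [3, 4, 3], 
  [3, 4, 3, 0, 1, 3, 0], [3, 4, 3, 4, 3], [3, 2, 4, 3, 0, 1, 3], [3, 1, 4, 3, 1, 5, 3, 5], [3, 1, 4, 3, 2], [3, 1, 4, 3, 0, 3, 1], [3, 1, 4, 3, 0, 2, 3], 
  [3, 2, 4, 3], [3, 1, 4, 3], [3, 4, 3, 0, 1, 3, 2], [3, 4, 3, 0, 1, 4], [3, 4, 3, 0, 4], [3, 4, 3, 0, 2, 4], [3, 1, 4, 3, 0, 2, 3, 0], [3, 4], 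
  [3, 4, 3, 4, 3, 0], [3, 2, 4], [3, 1, 4], [3], [3, 2], [3, 1], []]

def ge : List ℕ := [5, 0, 3, 4, 3, 0, 4, 3]
def ge' : List ℕ := [3, 4, 0, 3, 4, 3, 0, 5]
def ga : List ℕ := [3, 4, 5, 4, 3, 2, 5, 3, 0, 4, 3, 5]
def ga' : List ℕ := [5, 3, 4, 0, 3, 5, 1, 3, 4, 5, 4, 3]

def Y3 : List (List ℕ) := [[0] ++ (ge ++ FH3.getD 1 [] ++ ge'), ge ++ ge', [0] ++ (ga ++ FH3.getD 2 [] ++ ga'), ga ++ ga',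
  [0] ++ [0]]

theorem chk3 : cenB (nat_lit 6156) (nat_lit 13) J3.T (nat_lit 206) L3 W3 = true := by decide +kernel

theorem sat3 : Sat J3.s (RDH.map (subst FH3) ++ Y3) :=
  J3.rep.sat_of_inj J3.card.2.2 (by decide +kernel) (sat_of_relsP J3.ok (by norm_num)
    (show relsP (nat_lit 6156) (nat_lit 13) (nat_lit 0) (nat_lit 13) J3.T _ = true by decide +kernel))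

theorem cm3 : ∃ φ : El DH →* J3.G, CM φ hz ∧ ∀ t, orderOf t = 2 → IsConj (φ hz) t := by
  have h1 := cen_le' J3.rep (B := 13) (by norm_num) (by norm_num) (by norm_num) (by norm_num) (by decide +kernel) chk3
  rw [show Nat.card (St J3.phi 0) = 8160 from card_eq_of_index (n := 6156) J3.card.2.1
    (J3.rep.index_stab (by norm_num) J3.trans) (by norm_num), show W3.length = 323 by decide +kernel,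
    show L3.length = 76 by decide +kernel] at h1
  have e0 : ev J3.s (FH3.getD 0 []) = J3.s 0 := ev_single _ _
  obtain ⟨φ, h2, h3, h4, h5⟩ := exists_cm' (Sat.subst (sat3.mono fun w hw => List.mem_append_left _ hw))
    (fun H => ne_one_J3 (w := [0]) (p := 3) (by decide) (by norm_num) (by decide +kernel)
      (by rw [show ev J3.s [0] = 1 from H, J3.phi.map_one]; rfl)) (by rw [e0]; omega)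
  have h6 : Sat J3.s Y3 := sat3.mono fun w hw => List.mem_append_right _ hw
  simp only [Sat, Y3, List.forall_mem_cons, ev_append, ev_single] at h6
  obtain ⟨k1, k2, k3, k4, k5, -⟩ := h6
  have k : ∀ {g g' u : J3.G}, J3.s 0 * (g * u * g') = 1 → g * g' = 1 → IsConj (φ hz) u := fun h h' =>
    (isConj_iff.mpr ⟨_, by rw [h3, e0, inv_eq_of_mul_eq_one_right h', eq_inv_of_mul_eq_one_right h,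
      inv_eq_of_mul_eq_one_right k5]⟩).symm
  refine ⟨φ, h2, fun t ht => ?_⟩
  rcases inv_classes h2 ht with H | H | H
  exacts [H, (h4 ▸ k k1 k2).trans H, (h5 ▸ k k3 k4).trans H]

end Cfsg.Agent.JC
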